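import Mathlib
import Groth.Agent.S15129

/-!
Regular elements and sequences on modules flat over an Artinian local ring: they can be tested modulo
any proper ideal of the base, and the quotients stay flat.
-/

set_option autoImplicit false
universe u v w

namespace Groth.Agent.ArtFlatRegLib

open IsLocalRing RingTheory.Sequence TensorProduct
open scoped Pointwise

variable {A : Type u} [CommRing A] [IsLocalRing A] {M : Type v} [AddCommGroup M] [Module A M]

theorem mem_smul_top_of_smul_mem [Module.Flat A M] {I : Ideal A} {s : A} (hs : s ∉ I)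
    (hsm : ∀ t ∈ maximalIdeal A, s * t ∈ I) {y : M} (h : s • y ∈ (I • ⊤ : Submodule A M)) :
    y ∈ (maximalIdeal A • ⊤ : Submodule A M) := by
  let φ : A →ₗ[A] A ⧸ I := (Submodule.mkQ I).comp (LinearMap.lsmul A A s)
  have hφ : ∀ r, φ r = Ideal.Quotient.mk I (s * r) := fun r => rfl
  have hex : Function.Exact (maximalIdeal A).subtype φ := fun r => by
    rw [hφ, Ideal.Quotient.eq_zero_iff_mem]
    refine ⟨fun hr => ⟨⟨r, ?_⟩, rfl⟩, by rintro ⟨t, rfl⟩; exact hsm _ t.2⟩
    rw [mem_maximalIdeal]
    intro hu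
    obtain ⟨b, hb⟩ := hu.exists_right_inv
    exact hs (by simpa [mul_assoc, hb] using I.mul_mem_right b hr)
  have h0 : φ.rTensor M ((1 : A) ⊗ₜ y) = 0 := by
    rw [LinearMap.rTensor_tmul, hφ, mul_one]
    apply (quotTensorEquivQuotSMul M I).injective
    rw [map_zero, quotTensorEquivQuotSMul_mk_tmul, Submodule.Quotient.mk_eq_zero]
    exact h
  obtain ⟨w, hw⟩ := (Module.Flat.rTensor_exact M hex _).1 h0
  have key : ∀ w, TensorProduct.lid A M ((maximalIdeal A).subtype.rTensor M w) ∈
      (maximalIdeal A • ⊤ : Submodule A M) := fun w => by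
    induction w using TensorProduct.induction_on with
    | zero => simp
    | add a b ha hb => rw [map_add, map_add]; exact add_mem ha hb
    | tmul a z => exact Submodule.smul_mem_smul a.2 Submodule.mem_top
  have := key w
  rwa [hw, TensorProduct.lid_tmul, one_smul] at this

variable [IsArtinianRing A]

theorem exists_socle {I : Ideal A} (hI : I ≠ ⊤) (hne : I ≠ maximalIdeal A) :
    ∃ s ∈ maximalIdeal A, s ∉ I ∧ ∀ t ∈ maximalIdeal A, s * t ∈ I := by
  classical
  have hex : ∃ n, maximalIdeal A ^ n ≤ I := by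
    obtain ⟨n, hn⟩ := (isArtinianRing_iff_isNilpotent_maximalIdeal A).1 inferInstance
    exact ⟨n, hn ▸ bot_le⟩
  obtain ⟨s, hs, hsI⟩ : ∃ s ∈ maximalIdeal A ^ (Nat.find hex - 1), s ∉ I :=
    SetLike.not_le_iff_exists.1 (Nat.find_min hex (by
      have : Nat.find hex ≠ 0 := fun h0 => hI (top_le_iff.1 (by simpa [h0] using Nat.find_spec hex))
      omega))
  have h2 : 2 ≤ Nat.find hex := by
    by_contra hlt
    refine hne (le_antisymm (le_maximalIdeal hI) ?_)
    exact (le_of_le_of_eq (Ideal.pow_le_pow_right (by omega : Nat.find hex ≤ 1)) rfl |>.trans' (pow_one (maximalIdeal A)).ge).trans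
      (Nat.find_spec hex)
  refine ⟨s, Ideal.pow_le_self (by omega) hs, hsI, fun t ht => Nat.find_spec hex ?_⟩
  have := Ideal.mul_mem_mul hs ht
  rwa [← pow_succ, Nat.sub_add_cancel (by omega)] at this

variable [Module.Flat A M] {S : Type w} [CommRing S] [Algebra A S] [Module S M] [IsScalarTower A S M]

/-- Multiplication by `f` is injective on `M ⧸ I M`. -/
def RegMod (f : S) (M : Type v) [AddCommGroup M] [Module A M] [Module S M] (I : Ideal A) : Prop :=
  ∀ x : M, f • x ∈ (I • ⊤ : Submodule A M) → x ∈ (I • ⊤ : Submodule A M)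

omit [IsLocalRing A] [IsArtinianRing A] [Module.Flat A M] in
theorem smul_mem_smul_top (f : S) {J : Ideal A} {x : M} (hx : x ∈ (J • ⊤ : Submodule A M)) :
    f • x ∈ (J • ⊤ : Submodule A M) := by
  refine Submodule.smul_induction_on hx (fun a ha m _ => ?_) (fun a b ha hb => ?_)
  · rw [smul_comm]; exact Submodule.smul_mem_smul ha Submodule.mem_top
  · rw [smul_add]; exact add_mem ha hb

theorem regMod_maximal_of_regMod {f : S} {I : Ideal A} (hI : I ≠ ⊤) (h : RegMod f M I) :
    RegMod f M (maximalIdeal A) := by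
  rcases eq_or_ne I (maximalIdeal A) with rfl | hne
  · exact h
  obtain ⟨s, -, hsI, hst⟩ := exists_socle hI hne
  intro x hx
  refine mem_smul_top_of_smul_mem hsI hst (h _ ?_)
  rw [smul_comm]
  have : ∀ z ∈ (maximalIdeal A • ⊤ : Submodule A M), s • z ∈ (I • ⊤ : Submodule A M) := fun z hz => by
    refine Submodule.smul_induction_on hz (fun a ha m _ => ?_) (fun a b ha hb => ?_)
    · rw [smul_smul]; exact Submodule.smul_mem_smul (hst a ha) Submodule.mem_top
    · rw [smul_add]; exact add_mem ha hb
  exact this _ hx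

theorem regMod_of_regMod_maximal {f : S} (h : RegMod f M (maximalIdeal A)) :
    ∀ I : Ideal A, I ≠ ⊤ → RegMod f M I := by
  intro I
  induction I using WellFoundedGT.induction with
  | _ I ih =>
    intro hI
    rcases eq_or_ne I (maximalIdeal A) with rfl | hne
    · exact h
    obtain ⟨s, hsm, hsI, hst⟩ := exists_socle hI hne
    have hlt : I < I ⊔ Ideal.span {s} := lt_of_le_of_ne le_sup_left fun he =>
      hsI (he.ge (Submodule.mem_sup_right (Ideal.mem_span_singleton_self s)))
    have hne' : I ⊔ Ideal.span {s} ≠ ⊤ := fun he => (maximalIdeal.isMaximal A).ne_top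
      (top_le_iff.1 (he.ge.trans (sup_le (le_maximalIdeal hI) ((Ideal.span_singleton_le_iff_mem _).2 hsm))))
    intro x hx
    have hx' := ih _ hlt hne' x (Submodule.smul_mono_left le_sup_left hx)
    rw [Submodule.sup_smul, Submodule.ideal_span_singleton_smul, Submodule.mem_sup] at hx'
    obtain ⟨a, ha, b, hb, rfl⟩ := hx'
    obtain ⟨y, -, rfl⟩ := hb
    refine add_mem ha ?_
    have h1 : s • (f • y) ∈ (I • ⊤ : Submodule A M) := by
      rw [smul_add] at hx
      have := sub_mem hx (smul_mem_smul_top f ha)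
      rw [add_sub_cancel_left] at this
      rwa [smul_comm s f y]
    have hy := h y (mem_smul_top_of_smul_mem hsI hst h1)
    show s • y ∈ _
    refine Submodule.smul_induction_on hy (fun c hc m _ => ?_) (fun c d hc hd => ?_)
    · rw [smul_smul]; exact Submodule.smul_mem_smul (hst c hc) Submodule.mem_top
    · rw [smul_add]; exact add_mem hc hd

theorem regMod_bot_iff {f : S} : RegMod (A := A) f M (⊥ : Ideal A) ↔ IsSMulRegular M f := by
  rw [isSMulRegular_iff_right_eq_zero_of_smul]
  simp [RegMod, Submodule.bot_smul]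

theorem regMod_iff_isSMulRegular {f : S} {I : Ideal A} (hI : I ≠ ⊤) :
    RegMod f M I ↔ IsSMulRegular M f :=
  ⟨fun h => regMod_bot_iff.1 (regMod_of_regMod_maximal (regMod_maximal_of_regMod hI h) ⊥ bot_ne_top),
    fun h => regMod_of_regMod_maximal (regMod_maximal_of_regMod bot_ne_top (regMod_bot_iff.2 h)) I hI⟩

/-- The quotient by a regular element stays flat. -/
theorem flat_quotSMulTop {f : S} (hf : IsSMulRegular M f) : Module.Flat A (QuotSMulTop f M) := by
  let μ : M →ₗ[A] M := ((LinearMap.lsmul S M f).restrictScalars A)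
  have hk : Function.Injective (μ.lTensor (ResidueField A)) := by
    show Function.Injective (μ.lTensor (A ⧸ maximalIdeal A))
    have hm := (regMod_iff_isSMulRegular (maximalIdeal.isMaximal A).ne_top).2 hf
    rw [injective_iff_map_eq_zero]
    intro z hz
    obtain ⟨x, rfl⟩ : ∃ x : M, (Ideal.Quotient.mk (maximalIdeal A) 1) ⊗ₜ[A] x = z :=
      TensorProduct.mk_surjective A M (A ⧸ maximalIdeal A) Ideal.Quotient.mk_surjective z
    rw [LinearMap.lTensor_tmul] at hz
    have h1 := congrArg (quotTensorEquivQuotSMul M (maximalIdeal A)) hz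
    rw [LinearEquiv.map_zero, quotTensorEquivQuotSMul_mk_tmul, one_smul, Submodule.Quotient.mk_eq_zero] at h1
    apply (quotTensorEquivQuotSMul M (maximalIdeal A)).injective
    rw [LinearEquiv.map_zero, quotTensorEquivQuotSMul_mk_tmul, one_smul, Submodule.Quotient.mk_eq_zero]
    exact hm x h1
  have h := (Groth.Agent.S15129.result A M M (M ⧸ LinearMap.range μ) μ (LinearMap.range μ).mkQ hf
    (Submodule.mkQ_surjective _) (LinearMap.exact_map_mkQ_range μ)).1 hk
  haveI := h
  let e : QuotSMulTop f M ≃ₗ[A] M ⧸ LinearMap.range μ :=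
    (Submodule.Quotient.restrictScalarsEquiv A (f • ⊤ : Submodule S M)).symm ≪≫ₗ
      Submodule.quotEquivOfEq _ _ (by
        ext z
        simp [μ, Submodule.mem_smul_pointwise_iff_exists])
  exact Module.Flat.of_linearEquiv e

omit [IsLocalRing A] [IsArtinianRing A] [Module.Flat A M] in
theorem mem_map_smul_top {I : Ideal A} {x : M} :
    x ∈ (I.map (algebraMap A S) • ⊤ : Submodule S M) ↔ x ∈ (I • ⊤ : Submodule A M) := by
  rw [← Submodule.restrictScalars_mem A, Submodule.restrictScalars_map_smul_eq, Submodule.restrictScalars_top]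

theorem isSMulRegular_quot_iff {f : S} {I : Ideal A} (hI : I ≠ ⊤) :
    IsSMulRegular (M ⧸ (I.map (algebraMap A S) • ⊤ : Submodule S M)) f ↔ IsSMulRegular M f := by
  refine Iff.trans ?_ (regMod_iff_isSMulRegular hI)
  rw [isSMulRegular_iff_right_eq_zero_of_smul]
  refine ⟨fun h x hx => ?_, fun h z hz => ?_⟩
  · rw [← mem_map_smul_top (S := S), ← Submodule.Quotient.mk_eq_zero] at hx ⊢
    exact h _ (by rw [← Submodule.Quotient.mk_smul]; exact hx)
  · obtain ⟨x, rfl⟩ := Submodule.Quotient.mk_surjective _ z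
    rw [← Submodule.Quotient.mk_smul, Submodule.Quotient.mk_eq_zero, mem_map_smul_top] at hz
    rw [Submodule.Quotient.mk_eq_zero, mem_map_smul_top]
    exact h x hz

/-- Weakly regular sequences can be tested modulo a proper ideal of the base. -/
theorem isWeaklyRegular_tensor_iff {I : Ideal A} (hI : I ≠ ⊤) (rs : List S) :
    ∀ (M : Type v) [AddCommGroup M] [Module A M] [Module.Flat A M] [Module S M] [IsScalarTower A S M],
      IsWeaklyRegular ((S ⧸ I.map (algebraMap A S)) ⊗[S] M) rs ↔ IsWeaklyRegular M rs := by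
  induction rs with
  | nil => intro M _ _ _ _ _; exact ⟨fun _ => IsWeaklyRegular.nil S M, fun _ => IsWeaklyRegular.nil S _⟩
  | cons r rs ih =>
    intro M _ _ _ _ _
    rw [isWeaklyRegular_cons_iff, isWeaklyRegular_cons_iff,
      (quotTensorEquivQuotSMul M (I.map (algebraMap A S))).isSMulRegular_congr r, isSMulRegular_quot_iff hI]
    refine and_congr_right fun hr => ?_
    haveI := flat_quotSMulTop (A := A) hr
    rw [← (QuotSMulTop.tensorQuotSMulTopEquivQuotSMulTop r (S ⧸ I.map (algebraMap A S)) M).isWeaklyRegular_congr rs]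
    exact ih (QuotSMulTop r M)

end Groth.Agent.ArtFlatRegLib
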